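import Mathlib.LinearAlgebra.Dimension.Constructions
import Mathlib.LinearAlgebra.FiniteDimensional.Lemmas
import Mathlib.LinearAlgebra.LinearIndependent.Lemmas
import Mathlib.Data.Fintype.Powerset
import Mathlib.Algebra.BigOperators.Group.Finset.Piecewise
import Mathlib.Tactic.LinearCombination
import Mathlib.Tactic.Zify
import Mathlib.Algebra.Order.Field.Basic
import Mathlib.Data.Rat.Cast.Order

/-!
# Decomposition of a weight vector as a sum of bases
-/

universe u

open Finset

namespace Groth.Agent.ConfigLib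

variable {K : Type u} [Field K] {V : Type u} [AddCommGroup V] [Module K V] [FiniteDimensional K V]
  {ι : Type*} [DecidableEq ι] [Fintype ι] (x : ι → V)

/-- The rank of a set of points of a configuration. -/
noncomputable def rk (T : Finset ι) : ℕ := Module.finrank K (Submodule.span K (x '' (T : Set ι)))

variable {x}

theorem rk_mono {A C : Finset ι} (h : A ⊆ C) : rk (K := K) x A ≤ rk (K := K) x C :=
  Submodule.finrank_mono (Submodule.span_mono (Set.image_mono (Finset.coe_subset.2 h)))

theorem rk_empty : rk (K := K) x ∅ = 0 := by simp [rk]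

theorem rk_union_add_inter (A C : Finset ι) :
    rk (K := K) x (A ∪ C) + rk (K := K) x (A ∩ C) ≤ rk (K := K) x A + rk (K := K) x C := by
  unfold rk
  rw [Finset.coe_union, Set.image_union, Submodule.span_union,
    ← Submodule.finrank_sup_add_finrank_inf_eq (Submodule.span K (x '' (A : Set ι))) (Submodule.span K (x '' (C : Set ι)))]
  gcongr
  refine Submodule.finrank_mono (le_inf ?_ ?_) <;>
    exact Submodule.span_mono (Set.image_mono (by simp))

theorem card_le_rk {B T : Finset ι} (hB : LinearIndepOn K x (B : Set ι)) :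
    (B ∩ T).card ≤ rk (K := K) x T := by
  have h : LinearIndepOn K x ((B ∩ T : Finset ι) : Set ι) := hB.mono (by simp)
  have h2 := finrank_span_eq_card h.linearIndependent
  simp only [Finset.coe_sort_coe, Fintype.card_coe] at h2
  rw [← h2]
  refine Submodule.finrank_mono (Submodule.span_mono ?_)
  rintro _ ⟨⟨j, hj⟩, rfl⟩
  exact ⟨j, (Finset.mem_inter.1 hj).2, rfl⟩

theorem rk_eq_card {B : Finset ι} (hB : LinearIndepOn K x (B : Set ι)) : rk (K := K) x B = B.card := by
  have h2 := finrank_span_eq_card hB.linearIndependent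
  simp only [Finset.coe_sort_coe, Fintype.card_coe] at h2
  rw [← h2, rk]
  exact congrArg (fun s => Module.finrank K (Submodule.span K s)) (Set.image_eq_range x (B : Set ι))

theorem exists_extend {B0 C : Finset ι} (h0 : B0 ⊆ C) (hB : LinearIndepOn K x (B0 : Set ι)) :
    ∃ B, B0 ⊆ B ∧ B ⊆ C ∧ LinearIndepOn K x (B : Set ι) ∧ B.card = rk (K := K) x C := by
  obtain ⟨b, hbC, h0b, hspan, hb⟩ := exists_linearIndepOn_extension hB (Finset.coe_subset.2 h0)
  lift b to Finset ι using b.toFinite
  refine ⟨b, Finset.coe_subset.1 h0b, Finset.coe_subset.1 hbC, hb, ?_⟩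
  rw [← rk_eq_card hb, rk, rk]
  exact le_antisymm (Submodule.finrank_mono (Submodule.span_mono (Set.image_mono hbC)))
    (Submodule.finrank_mono (Submodule.span_le.2 hspan))

variable (x) in
/-- A weight vector which is below `q` times the rank on every set, with total `q` times the dimension. -/
def Feasible (p : ι → ℕ) (q : ℕ) : Prop :=
  (∀ T : Finset ι, ∑ j ∈ T, p j ≤ q * rk (K := K) x T) ∧ ∑ j, p j = q * Module.finrank K V

theorem tight_union_inter {p : ι → ℕ} {q : ℕ} (hp : ∀ T : Finset ι, ∑ j ∈ T, p j ≤ q * rk (K := K) x T)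
    (hq : 0 < q) {A C : Finset ι} (hA : ∑ j ∈ A, p j = q * rk (K := K) x A)
    (hC : ∑ j ∈ C, p j = q * rk (K := K) x C) :
    (∑ j ∈ A ∪ C, p j = q * rk (K := K) x (A ∪ C)) ∧ (∑ j ∈ A ∩ C, p j = q * rk (K := K) x (A ∩ C)) ∧
      rk (K := K) x (A ∪ C) + rk (K := K) x (A ∩ C) = rk (K := K) x A + rk (K := K) x C := by
  have h1 := hp (A ∪ C)
  have h2 := hp (A ∩ C)
  have h3 := Finset.sum_union_inter (s₁ := A) (s₂ := C) (f := p)
  have h4 := Nat.mul_le_mul_left q (rk_union_add_inter (K := K) (x := x) A C)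
  rw [Nat.mul_add, Nat.mul_add] at h4
  refine ⟨by omega, by omega, Nat.eq_of_mul_eq_mul_left hq ?_⟩
  rw [Nat.mul_add, Nat.mul_add]
  omega

theorem exists_compatible_basis {p : ι → ℕ} {q : ℕ} (hp : ∀ T : Finset ι, ∑ j ∈ T, p j ≤ q * rk (K := K) x T)
    (hq : 0 < q) (C : Finset ι) (hC : ∑ j ∈ C, p j = q * rk (K := K) x C) :
    ∃ B, B ⊆ C ∧ LinearIndepOn K x (B : Set ι) ∧ B.card = rk (K := K) x C ∧
      ∀ T, T ⊆ C → ∑ j ∈ T, p j = q * rk (K := K) x T → (B ∩ T).card = rk (K := K) x T := by
  induction C using Finset.strongInduction with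
  | _ C ih =>
    rcases C.eq_empty_or_nonempty with rfl | hne
    · exact ⟨∅, subset_rfl, by simp [linearIndepOn_empty], by simp [rk_empty],
        fun T hT _ => by simp [Finset.subset_empty.1 hT, rk_empty]⟩
    obtain ⟨C0, hC0, hmax⟩ := (C.powerset.filter fun T => T ≠ C ∧ ∑ j ∈ T, p j = q * rk (K := K) x T).exists_maximal
      ⟨∅, by simp [rk_empty, hne.ne_empty.symm]⟩
    simp only [Finset.mem_filter, Finset.mem_powerset] at hC0 hmax
    obtain ⟨B0, hB0C, hB0i, hB0c, hB0⟩ := ih C0 (Finset.ssubset_iff_subset_ne.2 ⟨hC0.1, hC0.2.1⟩) hC0.2.2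
    obtain ⟨B, hB0B, hBC, hBi, hBc⟩ := exists_extend (hB0C.trans hC0.1) hB0i
    have hBC0 : B ∩ C0 = B0 := (Finset.eq_of_subset_of_card_le (Finset.subset_inter hB0B hB0C)
      (by rw [hB0c]; exact card_le_rk hBi)).symm
    refine ⟨B, hBC, hBi, hBc, fun T hT hTt => ?_⟩
    obtain ⟨hU, hI, hmod⟩ := tight_union_inter hp hq hTt hC0.2.2
    have hIc : (B ∩ (T ∩ C0)).card = rk (K := K) x (T ∩ C0) := by
      rw [← hB0 _ Finset.inter_subset_right hI]
      congr 1
      rw [← hBC0]
      ext
      simp only [Finset.mem_inter]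
      tauto
    have hUc : (B ∩ (T ∪ C0)).card = rk (K := K) x (T ∪ C0) := by
      by_cases h : T ∪ C0 = C
      · rw [h, Finset.inter_eq_left.2 hBC, hBc]
      · have : T ∪ C0 = C0 := le_antisymm
          (hmax ⟨Finset.union_subset hT hC0.1, h, hU⟩ Finset.subset_union_right) Finset.subset_union_right
        rw [this, hBC0, hB0c]
    have h1 := Finset.card_union_add_card_inter (B ∩ T) (B ∩ C0)
    rw [← Finset.inter_union_distrib_left, show (B ∩ T) ∩ (B ∩ C0) = B ∩ (T ∩ C0) by ext; simp; tauto,
      hIc, hUc, hBC0, hB0c] at h1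
    omega

theorem sum_indicator (B T : Finset ι) (c : ℕ) :
    ∑ j ∈ T, (if j ∈ B then c else 0) = c * (B ∩ T).card := by
  rw [Finset.sum_ite_mem, Finset.sum_const, smul_eq_mul, mul_comm, Finset.inter_comm]

theorem exists_bases_aux : ∀ (n : ℕ) (p : ι → ℕ) (q : ℕ), Feasible (K := K) x p q →
    (univ.filter fun T : Finset ι => ∑ j ∈ T, p j ≠ q * rk (K := K) x T).card + (univ.filter fun j => p j ≠ 0).card ≤ n →
    ∃ (k : ℕ) (P : Multiset (Finset ι)), 0 < k ∧ Multiset.card P = k * q ∧
      (∀ S ∈ P, S.card = Module.finrank K V ∧ LinearIndepOn K x (S : Set ι)) ∧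
      ∀ j, Multiset.countP (fun S => j ∈ S) P = k * p j := by
  intro n
  induction n using Nat.strong_induction_on with
  | _ n ih =>
    intro p q hpq hn
    set d := Module.finrank K V with hd
    by_cases h0 : q * d = 0
    · have hp0 : ∀ j, p j = 0 := fun j => by
        have := Finset.single_le_sum (f := p) (fun i _ => Nat.zero_le _) (Finset.mem_univ j)
        have h2 := hpq.2
        rw [show q * Module.finrank K V = 0 from h0] at h2
        omega
      exact ⟨1, Multiset.replicate q ∅, one_pos, by simp,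
        fun S hS => by
          obtain ⟨hq0, rfl⟩ := Multiset.mem_replicate.1 hS
          exact ⟨by simp; rcases Nat.mul_eq_zero.1 h0 with h | h <;> omega, by simp [linearIndepOn_empty]⟩,
        fun j => by rw [hp0, mul_zero]; exact Multiset.countP_eq_zero.2 fun S hS => by simp [Multiset.eq_of_mem_replicate hS]⟩
    have hq : 0 < q := Nat.pos_of_ne_zero fun h => h0 (by simp [h])
    set C := univ.filter fun j => p j ≠ 0 with hCdef
    have hsC : ∀ T : Finset ι, ∑ j ∈ T ∩ C, p j = ∑ j ∈ T, p j := fun T =>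
      Finset.sum_subset Finset.inter_subset_left fun j hj hj' => by
        by_contra h
        exact hj' (Finset.mem_inter.2 ⟨hj, by simp [hCdef, h]⟩)
    have hrC : rk (K := K) x C = d := by
      refine le_antisymm (Submodule.finrank_le _) (Nat.le_of_mul_le_mul_left ?_ hq)
      refine le_trans (le_of_eq ?_) (hpq.1 C)
      rw [← hpq.2, ← hsC univ, Finset.univ_inter]
    have hCt : ∑ j ∈ C, p j = q * rk (K := K) x C := by
      rw [hrC, ← hpq.2, ← hsC univ, Finset.univ_inter]
    obtain ⟨B, hBC, hBi, hBc, hB⟩ := exists_compatible_basis hpq.1 hq C hCt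
    rw [hrC] at hBc
    have htight : ∀ T : Finset ι, ∑ j ∈ T, p j = q * rk (K := K) x T → (B ∩ T).card = rk (K := K) x T := by
      intro T hT
      have h1 := hpq.1 (T ∩ C)
      have h2 : rk (K := K) x (T ∩ C) ≤ rk (K := K) x T := rk_mono Finset.inter_subset_left
      rw [hsC] at h1
      have h3 := Nat.mul_le_mul_left q h2
      have h4 : rk (K := K) x (T ∩ C) = rk (K := K) x T := Nat.eq_of_mul_eq_mul_left hq (by omega)
      rw [← h4, ← hB (T ∩ C) Finset.inter_subset_right (by rw [hsC, h4, hT])]
      congr 1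
      ext j
      simp only [Finset.mem_inter]
      exact ⟨fun h => ⟨h.1, h.2, hBC h.1⟩, fun h => ⟨h.1, h.2.1⟩⟩
    -- the step size
    have hBne : B.Nonempty := Finset.card_pos.1 (by rw [hBc]; exact Nat.pos_of_ne_zero fun h => h0 (by simp [h]))
    let δ : Finset ι → ℕ := fun T => rk (K := K) x T - (B ∩ T).card
    let f : Finset ι → ℕ := fun T => q * rk (K := K) x T - ∑ j ∈ T, p j
    let R : Finset (ℕ × ℕ) := B.image (fun j => (p j, 1)) ∪ (univ.filter fun T => δ T ≠ 0).image (fun T => (f T, δ T))
    obtain ⟨⟨c, k⟩, hck, hmin⟩ := R.exists_min_image (fun a => (a.1 : ℚ) / a.2)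
      ((hBne.image _).mono Finset.subset_union_left)
    have hmem : ∀ a ∈ R, 0 < a.1 ∧ 0 < a.2 := by
      intro a ha
      rcases Finset.mem_union.1 ha with h | h
      · obtain ⟨j, hj, rfl⟩ := Finset.mem_image.1 h
        have := hBC hj
        simp [hCdef] at this
        exact ⟨Nat.pos_of_ne_zero this, one_pos⟩
      · obtain ⟨T, hT, rfl⟩ := Finset.mem_image.1 h
        have hT' : δ T ≠ 0 := (Finset.mem_filter.1 hT).2
        refine ⟨?_, Nat.pos_of_ne_zero hT'⟩
        have := hpq.1 T
        have : ∑ j ∈ T, p j ≠ q * rk (K := K) x T := fun h => hT' (by simp [δ, htight T h])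
        simp only [f]
        omega
    obtain ⟨hc, hk⟩ : 0 < c ∧ 0 < k := hmem _ hck
    have hcross : ∀ a ∈ R, c * a.2 ≤ k * a.1 := fun a ha => by
      have h1 := hmin a ha
      rw [div_le_div_iff₀ (by exact_mod_cast hk) (by exact_mod_cast (hmem a ha).2)] at h1
      rw [mul_comm k]
      exact_mod_cast h1
    let p' : ι → ℕ := fun j => k * p j - if j ∈ B then c else 0
    have hle : ∀ j, (if j ∈ B then c else 0) ≤ k * p j := fun j => by
      split_ifs with hj
      · simpa using hcross (p j, 1) (Finset.mem_union_left _ (Finset.mem_image.2 ⟨j, hj, rfl⟩))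
      · exact Nat.zero_le _
    have hsum : ∀ T : Finset ι, ∑ j ∈ T, p' j + c * (B ∩ T).card = k * ∑ j ∈ T, p j := fun T => by
      rw [← sum_indicator B T c, ← Finset.sum_add_distrib, Finset.mul_sum]
      exact Finset.sum_congr rfl fun j _ => Nat.sub_add_cancel (hle j)
    have hdef : ∀ T : Finset ι, c * δ T ≤ k * f T := fun T => by
      by_cases h : δ T = 0
      · simp [h]
      · exact hcross (f T, δ T) (Finset.mem_union_right _ (Finset.mem_image.2 ⟨T, by simp [h], rfl⟩))
    have hcq : c ≤ k * q := by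
      obtain ⟨j, hj⟩ := hBne
      have h1 := hle j
      rw [if_pos hj] at h1
      have h2 := hpq.1 {j}
      have h3 : rk (K := K) x {j} ≤ 1 := by
        rw [← Finset.card_singleton j, ← rk_eq_card (x := x) (hBi.mono (by simpa using hj))]
      rw [Finset.sum_singleton] at h2
      exact h1.trans (Nat.mul_le_mul_left k (h2.trans ((Nat.mul_le_mul_left q h3).trans (mul_one q).le)))
    have hnew : ∀ T : Finset ι, ∑ j ∈ T, p' j + k * f T = (k * q - c) * rk (K := K) x T + c * δ T := by
      intro T
      have h1 := hsum T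
      have h2 := card_le_rk (T := T) hBi
      have h3 := hpq.1 T
      zify [hcq, h2, h3, δ, f] at h1 ⊢
      linear_combination h1
    have hfeas : Feasible (K := K) x p' (k * q - c) := by
      refine ⟨fun T => ?_, ?_⟩
      · have := hnew T; have := hdef T; omega
      · have h1 := hsum univ
        rw [Finset.inter_univ, hBc, hpq.2] at h1
        zify [hcq] at h1 ⊢
        linear_combination h1
    have hlt : (univ.filter fun T : Finset ι => ∑ j ∈ T, p' j ≠ (k * q - c) * rk (K := K) x T).card +
        (univ.filter fun j => p' j ≠ 0).card < n := by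
      refine lt_of_lt_of_le ?_ hn
      have hsub1 : (univ.filter fun T : Finset ι => ∑ j ∈ T, p' j ≠ (k * q - c) * rk (K := K) x T) ⊆
          univ.filter fun T : Finset ι => ∑ j ∈ T, p j ≠ q * rk (K := K) x T := fun T hT => by
        simp only [Finset.mem_filter, Finset.mem_univ, true_and] at hT ⊢
        intro h
        have h1 := hnew T
        simp [f, δ, h, htight T h] at h1
        exact hT h1
      have hsub2 : (univ.filter fun j => p' j ≠ 0) ⊆ C := fun j hj => by
        simp only [hCdef, Finset.mem_filter, Finset.mem_univ, true_and] at hj ⊢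
        intro h
        simp [p', h] at hj
      rcases Finset.mem_union.1 hck with h | h
      · obtain ⟨j, hj, he⟩ := Finset.mem_image.1 h
        refine Nat.add_lt_add_of_le_of_lt (Finset.card_le_card hsub1) (Finset.card_lt_card ⟨hsub2, fun hs => ?_⟩)
        have := (Finset.mem_filter.1 (hs (hBC hj))).2
        obtain ⟨rfl, rfl⟩ := Prod.mk.inj he
        simp [p', hj] at this
      · obtain ⟨T, hT, he⟩ := Finset.mem_image.1 h
        refine Nat.add_lt_add_of_lt_of_le (Finset.card_lt_card ⟨hsub1, fun hs => ?_⟩) (Finset.card_le_card hsub2)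
        have hT' : δ T ≠ 0 := (Finset.mem_filter.1 hT).2
        have hmemT : T ∈ univ.filter fun T : Finset ι => ∑ j ∈ T, p j ≠ q * rk (K := K) x T := by
          simp only [Finset.mem_filter, Finset.mem_univ, true_and]
          exact fun hh => hT' (by simp [δ, htight T hh])
        have h2 := (Finset.mem_filter.1 (hs hmemT)).2
        obtain ⟨hf', hd'⟩ := Prod.mk.inj he
        have h1 := hnew T
        rw [hf', hd', mul_comm k c] at h1
        exact h2 (by omega)
    obtain ⟨k', P, hk', hPc, hPS, hPj⟩ := ih _ hlt p' (k * q - c) hfeas le_rfl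
    refine ⟨k' * k, P + Multiset.replicate (k' * c) B, Nat.mul_pos hk' hk, ?_, ?_, fun j => ?_⟩
    · rw [Multiset.card_add, hPc, Multiset.card_replicate, ← Nat.mul_add, Nat.sub_add_cancel hcq, mul_assoc]
    · intro S hS
      rcases Multiset.mem_add.1 hS with h | h
      · exact hPS S h
      · obtain ⟨-, rfl⟩ := Multiset.mem_replicate.1 h
        exact ⟨hBc, hBi⟩
    · rw [Multiset.countP_add, hPj, mul_assoc]
      have h1 := Nat.sub_add_cancel (hle j)
      rw [← h1, Nat.mul_add]
      congr 1
      split_ifs with hj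
      · rw [Multiset.countP_eq_card.2 fun S hS => by simpa [Multiset.eq_of_mem_replicate hS] using hj, Multiset.card_replicate]
      · rw [Multiset.countP_eq_zero.2 fun S hS => by simpa [Multiset.eq_of_mem_replicate hS] using hj, mul_zero]

theorem exists_bases {p : ι → ℕ} {q : ℕ} (hpq : Feasible (K := K) x p q) :
    ∃ (k : ℕ) (P : Multiset (Finset ι)), 0 < k ∧ Multiset.card P = k * q ∧
      (∀ S ∈ P, S.card = Module.finrank K V ∧ LinearIndepOn K x (S : Set ι)) ∧
      ∀ j, Multiset.countP (fun S => j ∈ S) P = k * p j :=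
  exists_bases_aux _ p q hpq le_rfl

theorem sum_countP (P : Multiset (Finset ι)) (T : Finset ι) :
    ∑ j ∈ T, Multiset.countP (fun S => j ∈ S) P = (P.map fun S => (S ∩ T).card).sum := by
  induction P using Multiset.induction_on with
  | empty => simp
  | cons S P ih =>
    rw [Multiset.map_cons, Multiset.sum_cons, ← ih]
    simp only [Multiset.countP_cons, Finset.sum_add_distrib]
    rw [add_comm, sum_indicator S T 1, one_mul]

theorem stable_iff_monomials {n : ℕ} (x : Fin (n + 1) → V) (hx : ∀ i, x i ≠ 0) :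
    (∀ L : Submodule K V, L ≠ ⊥ → L ≠ ⊤ →
        Set.ncard {i : Fin (n + 1) | x i ∈ L} * Module.finrank K V < Module.finrank K L * (n + 1)) ↔
      ∃ N N₀ : ℕ, 0 < N₀ ∧ N₀ ≤ N ∧
        ∀ i : Fin (n + 1), ∃ P : Multiset (Finset (Fin (n + 1))), P ≠ 0 ∧
          (∀ S ∈ P, S.card = Module.finrank K V ∧ LinearIndepOn K x (S : Set (Fin (n + 1)))) ∧
          ∀ j : Fin (n + 1), Multiset.countP (fun S => j ∈ S) P = if j = i then N - N₀ else N := by
  classical
  set d := Module.finrank K V with hd
  have hd0 : 0 < d := Module.finrank_pos_iff_exists_ne_zero.2 ⟨x 0, hx 0⟩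
  have hsum : ∀ (N N₀ : ℕ), N₀ ≤ N → ∀ (i : Fin (n + 1)) (T : Finset (Fin (n + 1))),
      ∑ j ∈ T, (if j = i then N - N₀ else N) + (if i ∈ T then N₀ else 0) = N * T.card := by
    intro N N₀ hN i T
    rw [← Finset.sum_ite_eq' T i (fun _ => N₀), ← Finset.sum_add_distrib,
      Finset.sum_congr rfl (fun j _ => show _ = N by split_ifs <;> omega), Finset.sum_const, smul_eq_mul, mul_comm]
  constructor
  · intro h
    set N := d * (d * d + 1) with hN
    suffices key : ∀ i : Fin (n + 1), ∃ (k : ℕ) (P : Multiset (Finset (Fin (n + 1)))), 0 < k ∧ P ≠ 0 ∧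
        (∀ S ∈ P, S.card = d ∧ LinearIndepOn K x (S : Set (Fin (n + 1)))) ∧
        ∀ j, Multiset.countP (fun S => j ∈ S) P = k * (if j = i then N - d else N) by
      choose k P hk hP0 hPS hPj using key
      refine ⟨(∏ i, k i) * N, (∏ i, k i) * d, Nat.mul_pos (Finset.prod_pos fun i _ => hk i) hd0,
        Nat.mul_le_mul_left _ (Nat.le_mul_of_pos_right _ (by omega)), fun i => ?_⟩
      obtain ⟨m, hm⟩ := Finset.dvd_prod_of_mem k (Finset.mem_univ i)
      have hm0 : m ≠ 0 := fun h => (Finset.prod_pos (f := k) (fun i _ => hk i)).ne' (by rw [hm, h, mul_zero]; )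
      refine ⟨m • P i, ?_, fun S hS => hPS i S (Multiset.mem_of_mem_nsmul hS), fun j => ?_⟩
      · exact fun h => hP0 i (Multiset.card_eq_zero.1 ((Nat.mul_eq_zero.1 (by
          rw [← Multiset.card_nsmul, h]; simp)).resolve_left hm0))
      · rw [Multiset.countP_nsmul, hPj, hm]
        split_ifs
        · rw [← Nat.mul_sub]; ring
        · ring
    intro i
    set q := (n + 1) * (d * d + 1) - 1 with hq
    have hqd : q * d + d = N * (n + 1) := by
      rw [hN, hq, ← Nat.succ_mul, Nat.succ_eq_add_one, Nat.sub_add_cancel]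
      · ring
      · exact Nat.mul_pos (by omega) (by omega)
    let p : Fin (n + 1) → ℕ := fun j => if j = i then N - d else N
    have hp : Feasible (K := K) x p q := by
      have hps : ∀ T : Finset (Fin (n + 1)), ∑ j ∈ T, p j + (if i ∈ T then d else 0) = N * T.card :=
        hsum N d (Nat.le_mul_of_pos_right _ (by omega)) i
      have htot := hps univ
      rw [if_pos (Finset.mem_univ i), Finset.card_univ, Fintype.card_fin, ← hqd] at htot
      refine ⟨fun T => ?_, by rw [← hd]; omega⟩
      set L := Submodule.span K (x '' (T : Set (Fin (n + 1)))) with hL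
      by_cases hT : T = ∅
      · simp [hT]
      by_cases htop : L = ⊤
      · refine (Finset.sum_le_sum_of_subset (Finset.subset_univ T)).trans (le_of_eq ?_)
        rw [show rk (K := K) x T = d by rw [rk, ← hL, htop, finrank_top]]
        omega
      obtain ⟨j, hj⟩ := Finset.nonempty_iff_ne_empty.2 hT
      have hjL : x j ∈ L := Submodule.subset_span ⟨j, hj, rfl⟩
      have hbot : L ≠ ⊥ := fun hb => hx j (by simpa [hb] using hjL)
      have h1 := h L hbot htop
      have hsub : T.card ≤ Set.ncard {i : Fin (n + 1) | x i ∈ L} := by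
        rw [← Set.ncard_coe_finset T]
        exact Set.ncard_le_ncard fun k hk => Submodule.subset_span ⟨k, hk, rfl⟩
      have hrd : rk (K := K) x T ≤ d := Submodule.finrank_le _
      have h2 : T.card * d + 1 ≤ rk (K := K) x T * (n + 1) :=
        Nat.succ_le_of_lt (lt_of_le_of_lt (Nat.mul_le_mul_right d hsub) h1)
      have hgoal : d * (N * T.card) ≤ d * (q * rk (K := K) x T) → ∑ j ∈ T, p j ≤ q * rk (K := K) x T := fun h => by
        have := Nat.le_of_mul_le_mul_left h hd0
        have := hps T
        omega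
      refine hgoal ?_
      · have h3 := Nat.mul_le_mul_left N h2
        have h4 : N ≥ rk (K := K) x T * d :=
          le_trans (Nat.mul_le_mul_right d hrd) (hN ▸ Nat.mul_le_mul_left d (by nlinarith))
        nlinarith
    obtain ⟨k, P, hk, hPc, hPS, hPj⟩ := exists_bases hp
    refine ⟨k, P, hk, fun h => ?_, hPS, hPj⟩
    rw [h] at hPc
    have hq0 : q = 0 := (Nat.mul_eq_zero.1 hPc.symm).resolve_left hk.ne'
    rw [hq0, zero_mul, zero_add, hN, mul_assoc] at hqd
    have : 2 * 1 ≤ (d * d + 1) * (n + 1) := Nat.mul_le_mul (by nlinarith) (by omega)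
    nlinarith
  · rintro ⟨N, N₀, hN₀, hN, h⟩ L hbot htop
    set T : Finset (Fin (n + 1)) := univ.filter fun j => x j ∈ L with hT
    have hTn : Set.ncard {i : Fin (n + 1) | x i ∈ L} = T.card := by rw [← Set.ncard_coe_finset]; simp [hT]
    have hTS : ∀ S : Finset (Fin (n + 1)), LinearIndepOn K x (S : Set (Fin (n + 1))) →
        (S ∩ T).card ≤ Module.finrank K L := fun S hS =>
      (card_le_rk hS).trans (Submodule.finrank_mono (Submodule.span_le.2 (by
        rintro _ ⟨j, hj, rfl⟩; exact (Finset.mem_filter.1 hj).2)))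
    obtain ⟨i, hi⟩ : ∃ i, i ∉ T := by
      by_contra hall
      push_neg at hall
      obtain ⟨P, hP0, hPS, -⟩ := h 0
      obtain ⟨S, hS⟩ := Multiset.exists_mem_of_ne_zero hP0
      have h1 := hTS S (hPS S hS).2
      rw [Finset.inter_eq_left.2 (fun j _ => hall j), (hPS S hS).1] at h1
      have := Submodule.finrank_lt htop
      omega
    obtain ⟨P, hP0, hPS, hPj⟩ := h i
    have hu := sum_countP P univ
    simp only [hPj, Finset.inter_univ] at hu
    rw [Multiset.map_congr rfl (fun S hS => (hPS S hS).1), Multiset.map_const', Multiset.sum_replicate, smul_eq_mul] at hu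
    have htot := hsum N N₀ hN i univ
    rw [if_pos (Finset.mem_univ i), Finset.card_univ, Fintype.card_fin, hu] at htot
    have hT' := sum_countP P T
    simp only [hPj] at hT'
    have htT := hsum N N₀ hN i T
    rw [if_neg hi, add_zero] at htT
    have hle : (P.map fun S => (S ∩ T).card).sum ≤ Multiset.card P * Module.finrank K L := by
      refine le_trans (Multiset.sum_le_card_nsmul _ (Module.finrank K L) fun a ha => ?_) (by simp)
      obtain ⟨S, hS, rfl⟩ := Multiset.mem_map.1 ha
      exact hTS S (hPS S hS).2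
    rw [← hT', htT] at hle
    rw [hTn]
    have hLpos : 0 < Module.finrank K L := Submodule.one_le_finrank_iff.2 hbot
    refine Nat.lt_of_mul_lt_mul_left (a := N) ?_
    nlinarith [Nat.mul_le_mul_right d hle, Nat.mul_pos hLpos hN₀]

end Groth.Agent.ConfigLib
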